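import Mathlib
import Cfsg.Agent.Helper43.PsuM.RDefs
import Cfsg.Agent.Helper46.U3O.Defs

/-!
# S2089, block A-p (`SU₃(q)`, `q ≥ 3`, the `p`-part of the Schur multiplier; sub-architect helper9): definitions

`HeisO bar` (helper46) is the Heisenberg-type group of pairs `(a, b)`, `b + bar b + a * bar a = 0`; the torus `Kˣ` acts on
it by `l • (a, b) = (mu l * a, nu l * b)` with `mu l = bar l ^ 2 / l` and `nu l = l * bar l`.  A `Datum bar G` is a copy of
`HeisO bar ⋊ Kˣ` inside `G`.
-/

set_option autoImplicit false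

namespace Cfsg.Agent.Helper9.PsuA

open Cfsg.Agent.Helper46.U3O

variable {K : Type*} [Field K] (bar : K →+* K)

/-- the weight of the torus on `U / Z(U)` -/
def mu (l : Kˣ) : K := bar (l : K) ^ 2 / (l : K)

/-- the weight of the torus on `Z(U)`: the norm -/
def nu (l : Kˣ) : K := (l : K) * bar (l : K)

theorem mu_mul (l l' : Kˣ) : mu bar (l * l') = mu bar l * mu bar l' := by
  unfold mu
  rw [Units.val_mul, map_mul]
  field_simp

theorem nu_mul (l l' : Kˣ) : nu bar (l * l') = nu bar l * nu bar l' := by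
  unfold nu
  rw [Units.val_mul, map_mul]
  ring

theorem mu_one : mu bar (1 : Kˣ) = 1 := by simp [mu]

theorem nu_one : nu bar (1 : Kˣ) = 1 := by simp [nu]

theorem mu_ne_zero (l : Kˣ) : mu bar l ≠ 0 := by
  unfold mu
  have h1 : bar (l : K) ≠ 0 := by
    rw [Ne, map_eq_zero]
    exact l.ne_zero
  exact div_ne_zero (pow_ne_zero 2 h1) l.ne_zero

theorem nu_ne_zero (l : Kˣ) : nu bar l ≠ 0 := by
  unfold nu
  have h1 : bar (l : K) ≠ 0 := by
    rw [Ne, map_eq_zero]
    exact l.ne_zero
  exact mul_ne_zero l.ne_zero h1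

variable [BarInv K bar]

theorem bar_nu (l : Kˣ) : bar (nu bar l) = nu bar l := by
  unfold nu
  rw [map_mul, HeisO.bb (bar := bar), mul_comm]

theorem mu_mul_bar_mu (l : Kˣ) : mu bar l * bar (mu bar l) = nu bar l := by
  unfold mu nu
  have h1 : bar (l : K) ≠ 0 := by
    rw [Ne, map_eq_zero]
    exact l.ne_zero
  have h2 : (l : K) ≠ 0 := l.ne_zero
  rw [map_div₀, map_pow, HeisO.bb (bar := bar)]
  field_simp

/-- the action of a torus element on `HeisO bar` -/
def actH (l : Kˣ) : HeisO bar →* HeisO bar where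
  toFun x := ⟨mu bar l * x.a, nu bar l * x.b, by
    rw [map_mul, map_mul, bar_nu]
    have h := x.h
    have h2 := mu_mul_bar_mu bar l
    linear_combination nu bar l * h + x.a * bar x.a * h2⟩
  map_one' := by
    apply HeisO.ext <;> simp
  map_mul' x y := by
    apply HeisO.ext
    · simp [mul_add]
    · simp only [HeisO.mul_b, map_mul]
      have h2 := mu_mul_bar_mu bar l
      linear_combination (bar x.a * y.a) * h2

@[simp] theorem actH_a (l : Kˣ) (x : HeisO bar) : (actH bar l x).a = mu bar l * x.a := rfl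
@[simp] theorem actH_b (l : Kˣ) (x : HeisO bar) : (actH bar l x).b = nu bar l * x.b := rfl

/-- the centre of `HeisO bar`: the pairs `(0, b)` -/
def ZH : Subgroup (HeisO bar) where
  carrier := {x | x.a = 0}
  one_mem' := rfl
  mul_mem' := by
    intro x y hx hy
    show (x * y).a = 0
    rw [HeisO.mul_a, hx, hy, add_zero]
  inv_mem' := by
    intro x hx
    show (x⁻¹).a = 0
    rw [HeisO.inv_a, hx, neg_zero]

theorem mem_ZH (x : HeisO bar) : x ∈ ZH bar ↔ x.a = 0 := Iff.rfl

/-- a copy of `HeisO bar ⋊ Kˣ` in the group `G` -/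
structure Datum (G : Type*) [Group G] where
  u : HeisO bar →* G
  t : Kˣ →* G
  u_inj : Function.Injective u
  conj : ∀ (l : Kˣ) (x : HeisO bar), t l * u x * (t l)⁻¹ = u (actH bar l x)

end Cfsg.Agent.Helper9.PsuA
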