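import Mathlib
import Cfsg.Agent.Helper9.PsuA.Defs
import Cfsg.Agent.Helper84.RU3.Defs
import Cfsg.Agent.Helper86.RU3TR
import Cfsg.Agent.Helper13.U3O_HC
import Cfsg.Agent.Helper53.U3O_FAC

/-!
# S2089 block A-p: the leaf (C2) `not_dvd_index` (helper9's copy)
-/

set_option autoImplicit false
set_option linter.unusedSectionVars false
set_option linter.unusedVariables false

namespace Cfsg.Agent.Helper9.PsuA

open scoped commutatorElement
open Cfsg.Agent.Helper46.U3O Cfsg.Agent.Helper84.RU3

section concrete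

variable {K : Type*} [Field K] [Fintype K] {q : ℕ} (hK : Fintype.card K = q ^ 2) (bar : K →+* K)
  (hbar : ∀ x, bar x = x ^ q) [BarInv K bar]

include hK hbar in
/-- (C2) `U T` has index prime to `p` in `SUJ bar` -/
theorem not_dvd_index (p : ℕ) [Fact p.Prime] [CharP K p] (d : Datum bar ↥(SUJ bar)) :
    ¬ p ∣ (d.u.range ⊔ d.t.range).index := by
  classical
  have hp : p.Prime := Fact.out
  obtain ⟨k, hk⟩ := FiniteField.card K p
  have hqd : q ∣ p ^ (k : ℕ) := by
    rw [← hk.2, hK]
    exact dvd_pow_self q two_ne_zero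
  obtain ⟨n, -, rfl⟩ := (Nat.dvd_prime_pow hp).1 hqd
  have hn : 1 ≤ n := by
    by_contra hcon
    have hn0 : n = 0 := by omega
    rw [hn0, pow_zero, one_pow] at hK
    have := Fintype.one_lt_card (α := K)
    omega
  have hfac := Cfsg.Agent.Helper53.U3O.factorization_SU3 (F := K) p n hp hn hK
  obtain ⟨φ, -⟩ := Cfsg.Agent.Helper86.RU3.exists_transfer hK bar hbar
  have hG : Nat.card ↥(SUJ bar) = Nat.card ↥(Cfsg.SU 3 K (p ^ n)) := Nat.card_congr φ.toEquiv
  have hU : Nat.card d.u.range = (p ^ n) ^ 3 := by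
    rw [← Cfsg.Agent.Helper13.U3O.card_heisO (p ^ n) hK bar hbar]
    exact (Nat.card_congr (Equiv.ofInjective d.u d.u_inj)).symm
  have hidx : d.u.range.index * Nat.card d.u.range = Nat.card ↥(SUJ bar) := by
    rw [mul_comm]
    exact Subgroup.card_mul_index _
  have hi0 : d.u.range.index ≠ 0 := Subgroup.index_ne_zero_of_finite
  have hU0 : Nat.card d.u.range ≠ 0 := Nat.card_pos.ne'
  have h1 : (d.u.range.index * Nat.card d.u.range).factorization p = 3 * n := by
    rw [hidx, hG, hfac]
  rw [Nat.factorization_mul hi0 hU0, Finsupp.add_apply, hU, ← pow_mul, hp.factorization_pow,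
    Finsupp.single_eq_same] at h1
  have h2 : d.u.range.index.factorization p = 0 := by omega
  have h3 : ¬ p ∣ d.u.range.index := by
    intro hdvd
    have := (hp.dvd_iff_one_le_factorization hi0).mp hdvd
    omega
  intro h
  exact h3 (h.trans (Subgroup.index_dvd_of_le le_sup_left))

end concrete

end Cfsg.Agent.Helper9.PsuA
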