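import Mathlib
import Cfsg.Agent.Helper9.PsuA.Defs
import Cfsg.Agent.Helper13.U3O_HC

/-!
# S2089 block A-p: the leaves (COP), (ZT), (UT), (F1), (F2) (helper9)
-/

set_option autoImplicit false
set_option linter.unusedSectionVars false
set_option linter.unusedVariables false

namespace Cfsg.Agent.Helper9.PsuA

open scoped commutatorElement
open Cfsg.Agent.Helper46.U3O

/-- (COP) `|Kˣ|` is prime to the characteristic -/
theorem card_units_coprime {K : Type*} [Field K] [Finite K] (p : ℕ) [Fact p.Prime] [CharP K p] : (Nat.card Kˣ).Coprime p := by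
  classical
  have : Fintype K := Fintype.ofFinite K
  have hp : p.Prime := Fact.out
  obtain ⟨n, hn⟩ := FiniteField.card K p
  rw [Nat.card_eq_fintype_card, Fintype.card_units, hn.2]
  have hn0 : (n : ℕ) ≠ 0 := n.ne_zero
  have h1 : p ∣ p ^ (n : ℕ) := dvd_pow_self p hn0
  have h2 : 1 ≤ p ^ (n : ℕ) := Nat.one_le_pow _ _ hp.pos
  rw [Nat.coprime_comm, Nat.Prime.coprime_iff_not_dvd hp]
  intro h3
  have h4 : p ∣ 1 := by
    have := Nat.dvd_sub h1 h3
    rwa [Nat.sub_sub_self h2] at this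
  exact hp.one_lt.ne' (Nat.dvd_one.mp h4)

variable {K : Type*} [Field K] (bar : K →+* K) [BarInv K bar] {G : Type*} [Group G] (d : Datum bar G)

/-- `⁅d.u y, d.t l⁆ = d.u (y * actH bar l y⁻¹)` -/
theorem comm_u_t (y : HeisO bar) (l : Kˣ) : ⁅d.u y, d.t l⁆ = d.u (y * actH bar l y⁻¹) := by
  rw [commutatorElement_def, map_mul, ← d.conj, map_inv]
  group

/-- (ZT) `Z = [Z, T]` -/
theorem ZT (hf4 : ∃ l : Kˣ, nu bar l ≠ 1) :
    (ZH bar).map d.u ≤ ⁅(ZH bar).map d.u, d.t.range⁆ := by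
  obtain ⟨l, hl⟩ := hf4
  rintro _ ⟨z, hz, rfl⟩
  rw [SetLike.mem_coe, mem_ZH] at hz
  have hn : (1 : K) - nu bar l ≠ 0 := sub_ne_zero.mpr (Ne.symm hl)
  have hzb : bar z.b = -z.b := by
    have h := z.h
    rw [hz, zero_mul, add_zero] at h
    linear_combination h
  let z' : HeisO bar := ⟨0, z.b / (1 - nu bar l), by
    rw [map_div₀, map_sub, map_one, bar_nu, hzb]
    field_simp
    ring⟩
  have hz' : z' ∈ ZH bar := rfl
  have h1 : z = z' * actH bar l z'⁻¹ := by
    apply HeisO.ext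
    · rw [HeisO.mul_a, actH_a, HeisO.inv_a]
      show z.a = 0 + mu bar l * -0
      rw [hz]; ring
    · rw [HeisO.mul_b, actH_b, HeisO.inv_b]
      show z.b = z.b / (1 - nu bar l) + nu bar l * bar (z.b / (1 - nu bar l)) - bar 0 * _
      rw [map_div₀, map_sub, map_one, bar_nu, hzb, map_zero]
      field_simp
      ring
  rw [h1, ← comm_u_t]
  exact Subgroup.commutator_mem_commutator ⟨z', hz', rfl⟩ ⟨l, rfl⟩

/-- (UT) `U = Z [U, T]` -/
theorem UT (hf1 : ∃ l : Kˣ, mu bar l ≠ 1) (hf2 : ∀ a : K, ∃ x : HeisO bar, x.a = a) :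
    d.u.range ≤ (ZH bar).map d.u ⊔ ⁅d.u.range, d.t.range⁆ := by
  obtain ⟨l, hl⟩ := hf1
  rintro _ ⟨x, rfl⟩
  have hn : (1 : K) - mu bar l ≠ 0 := sub_ne_zero.mpr (Ne.symm hl)
  obtain ⟨y, hy⟩ := hf2 (x.a / (1 - mu bar l))
  set w : HeisO bar := y * actH bar l y⁻¹ with hw
  have hwa : w.a = x.a := by
    rw [hw, HeisO.mul_a, actH_a, HeisO.inv_a, hy]
    field_simp
    ring
  have h1 : x = (x * w⁻¹) * w := by group
  have h2 : x * w⁻¹ ∈ ZH bar := by
    rw [mem_ZH, HeisO.mul_a, HeisO.inv_a, hwa, add_neg_cancel]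
  rw [h1, map_mul]
  apply Subgroup.mul_mem_sup
  · exact ⟨_, h2, rfl⟩
  · rw [hw, ← comm_u_t]
    exact Subgroup.commutator_mem_commutator ⟨y, rfl⟩ ⟨l, rfl⟩

section field

variable {K : Type*} [Field K] [Fintype K] {q : ℕ} (hK : Fintype.card K = q ^ 2) (bar : K →+* K)
  (hbar : ∀ x, bar x = x ^ q) [BarInv K bar]

include hK hbar

/-- the trace is onto the fixed field -/
theorem exists_trace_eq (c : K) (hc : bar c = c) : ∃ b : K, b + bar b = c := by
  have hq0 : q ≠ 0 := by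
    rintro rfl
    rw [zero_pow two_ne_zero] at hK
    exact Fintype.card_ne_zero hK
  have h1 := Cfsg.Agent.Helper13.card_trace_fiber hK (one_ne_zero (α := K)) (a := c) (by rw [← hbar, hc])
  have h2 : Nonempty {t : K // t ^ q * 1 + t * 1 ^ q = c} := by
    apply (Nat.card_pos_iff.mp _).1
    rw [h1]
    exact Nat.pos_of_ne_zero hq0
  obtain ⟨t, ht⟩ := h2
  refine ⟨t, ?_⟩
  rw [hbar]
  linear_combination ht

/-- (F2) every `a` is the first coordinate of an element of `HeisO bar` -/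
theorem exists_heis_a (a : K) : ∃ x : HeisO bar, x.a = a := by
  obtain ⟨b, hb⟩ := exists_trace_eq hK bar hbar (-(a * bar a)) (by
    rw [map_neg, map_mul, HeisO.bb (bar := bar), mul_comm])
  exact ⟨⟨a, b, by rw [hb]; ring⟩, rfl⟩

/-- (F1) a norm-one torus element acting non-trivially on `U / Z` -/
theorem exists_norm_one (hq : 3 ≤ q) : ∃ l : Kˣ, nu bar l = 1 ∧ mu bar l ≠ 1 := by
  classical
  obtain ⟨g, hg⟩ := IsCyclic.exists_generator (α := Kˣ)
  have hord : orderOf g = q ^ 2 - 1 := by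
    rw [orderOf_eq_card_of_forall_mem_zpowers hg, Nat.card_eq_fintype_card, Fintype.card_units, hK]
  have hfac : (q - 1) * (q + 1) = q ^ 2 - 1 := by
    obtain ⟨m, rfl⟩ : ∃ m, q = m + 1 := ⟨q - 1, by omega⟩
    simp only [Nat.add_sub_cancel]
    have : (m + 1) ^ 2 = m * (m + 1 + 1) + 1 := by ring
    rw [this, Nat.add_sub_cancel]
  refine ⟨g ^ (q - 1), ?_, ?_⟩
  · unfold nu
    rw [hbar]
    have h1 : ((g ^ (q - 1) : Kˣ) : K) * ((g ^ (q - 1) : Kˣ) : K) ^ q = (((g ^ (q - 1)) ^ (q + 1) : Kˣ) : K) := by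
      push_cast
      ring
    rw [h1, ← pow_mul, hfac, ← hord, pow_orderOf_eq_one]
    rfl
  · intro h
    unfold mu at h
    rw [hbar] at h
    have hne : ((g ^ (q - 1) : Kˣ) : K) ≠ 0 := (g ^ (q - 1) : Kˣ).ne_zero
    have h1 : ((g ^ (q - 1) : Kˣ) : K) ^ (2 * q) = ((g ^ (q - 1) : Kˣ) : K) := by
      rw [div_eq_one_iff_eq hne] at h
      calc ((g ^ (q - 1) : Kˣ) : K) ^ (2 * q) = (((g ^ (q - 1) : Kˣ) : K) ^ q) ^ 2 := by ring
        _ = _ := h
    have h2 : (g ^ (q - 1)) ^ (2 * q) = g ^ (q - 1) := by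
      apply Units.ext
      push_cast
      push_cast at h1
      exact h1
    have h3 : g ^ ((q - 1) * (2 * q - 1)) = 1 := by
      have h4 : (q - 1) * (2 * q) = (q - 1) * (2 * q - 1) + (q - 1) := by
        have : 2 * q = (2 * q - 1) + 1 := by omega
        conv_lhs => rw [this]
        ring
      rw [← pow_mul, h4, pow_add] at h2
      exact mul_eq_right.mp h2
    have h4 : q ^ 2 - 1 ∣ (q - 1) * (2 * q - 1) := by
      rw [← hord]
      exact orderOf_dvd_of_pow_eq_one h3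
    rw [← hfac] at h4
    have h5 : q + 1 ∣ 2 * q - 1 := Nat.dvd_of_mul_dvd_mul_left (by omega) h4
    obtain ⟨k, hk⟩ := h5
    have hk2 : k < 2 := by
      by_contra hcon
      push Not at hcon
      have : (q + 1) * 2 ≤ (q + 1) * k := Nat.mul_le_mul_left _ hcon
      omega
    interval_cases k <;> omega

end field

end Cfsg.Agent.Helper9.PsuA
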