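import Mathlib
import Cfsg.Agent.Helper9.PsuA.Defs
import Cfsg.Agent.Helper9.PsuA.C2
import Cfsg.Agent.Helper89.PsuA_S4
import Cfsg.Agent.Helper37.PsuA_F6A
import Cfsg.Agent.Helper37.PsuA_F6B
import Cfsg.Agent.Helper9.PsuA.Leaves
import Cfsg.Agent.Helper89.PsuA_S1
import Cfsg.Agent.Helper48.PsuA_KAP
import Cfsg.Agent.Helper48.PsuA_F4
import Cfsg.Agent.Helper46.PsuA_F3
import Cfsg.Agent.Helper46.PsuA_C1
import Cfsg.Agent.Helper59.PsuM_CPLG
import Cfsg.Agent.Helper41.PsuM_TR2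
import Cfsg.Agent.Helper30.PsuM_PCRIT
import Cfsg.Agent.Helper45.GUBasic
import Cfsg.Agent.Helper13.Herm
import Cfsg.Agent.Helper86.RU3TR

/-!
# S2089 block A-p: the glue (helper9)
-/

set_option autoImplicit false
set_option linter.unusedSectionVars false
set_option linter.unusedVariables false

namespace Cfsg.Agent.Helper9.PsuA

open scoped commutatorElement
open Cfsg.Agent.Helper46.U3O Cfsg.Agent.Helper84.RU3 Cfsg.Agent.Helper96.StLift Cfsg.Agent.Helper43.PsuM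

universe u

/-! ## generic lemmas on "`g` normalises `A`" -/

section normalise

variable {Γ : Type*} [Group Γ]

theorem conj_mem_commutator (A B : Subgroup Γ) (g : Γ) (hA : ∀ x ∈ A, g * x * g⁻¹ ∈ A)
    (hB : ∀ x ∈ B, g * x * g⁻¹ ∈ B) : ∀ c ∈ ⁅A, B⁆, g * c * g⁻¹ ∈ ⁅A, B⁆ := by
  have h : ⁅A, B⁆ ≤ (⁅A, B⁆).comap (MulAut.conj g).toMonoidHom := by
    rw [Subgroup.commutator_le]
    intro a ha b hb
    rw [Subgroup.mem_comap]
    show g * ⁅a, b⁆ * g⁻¹ ∈ ⁅A, B⁆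
    have h1 : g * ⁅a, b⁆ * g⁻¹ = ⁅g * a * g⁻¹, g * b * g⁻¹⁆ := by
      simp only [commutatorElement_def]; group
    rw [h1]
    exact Subgroup.commutator_mem_commutator (hA a ha) (hB b hb)
  intro c hc
  exact h hc

theorem conj_mem_sup (A B : Subgroup Γ) (g : Γ) (hA : ∀ x ∈ A, g * x * g⁻¹ ∈ A)
    (hB : ∀ x ∈ B, g * x * g⁻¹ ∈ B) : ∀ c ∈ A ⊔ B, g * c * g⁻¹ ∈ A ⊔ B := by
  have h : A ⊔ B ≤ (A ⊔ B).comap (MulAut.conj g).toMonoidHom := by
    rw [sup_le_iff]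
    constructor
    · intro a ha
      rw [Subgroup.mem_comap]
      exact (le_sup_left : A ≤ A ⊔ B) (hA a ha)
    · intro b hb
      rw [Subgroup.mem_comap]
      exact (le_sup_right : B ≤ A ⊔ B) (hB b hb)
  intro c hc
  exact h hc

end normalise

/-! ## the abstract theorem -/

section abstract

variable {K : Type*} [Field K] (bar : K →+* K) [BarInv K bar] {G : Type u} [Group G] {Γ : Type u} [Group Γ]
  (d : Datum bar G) (τ : Γ →* G) (hτ : Function.Surjective τ) (hc : τ.ker ≤ Subgroup.center Γ)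

theorem ZH_map_le : (ZH bar).map d.u ≤ d.u.range := by
  rintro _ ⟨z, -, rfl⟩
  exact ⟨z, rfl⟩

/-- the torus normalises `U` -/
theorem t_conj_u (t : G) (ht : t ∈ d.t.range) (x : G) (hx : x ∈ d.u.range) : t * x * t⁻¹ ∈ d.u.range := by
  obtain ⟨l, rfl⟩ := ht
  obtain ⟨y, rfl⟩ := hx
  rw [d.conj]
  exact ⟨_, rfl⟩

/-- the torus normalises `Z` -/
theorem t_conj_z (t : G) (ht : t ∈ d.t.range) (x : G) (hx : x ∈ (ZH bar).map d.u) :
    t * x * t⁻¹ ∈ (ZH bar).map d.u := by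
  obtain ⟨l, rfl⟩ := ht
  obtain ⟨y, hy, rfl⟩ := hx
  rw [d.conj]
  refine ⟨_, ?_, rfl⟩
  rw [SetLike.mem_coe, mem_ZH] at hy ⊢
  rw [actH_a, hy, mul_zero]

include hτ hc in
/-- (S2) lifts of `U` commute with lifts of `Z` -/
theorem commute_lifts (hf1 : ∃ l : Kˣ, nu bar l = 1 ∧ mu bar l ≠ 1) (hf2 : ∀ a : K, ∃ x : HeisO bar, x.a = a)
    (hf3 : ∀ z : HeisO bar, z.a = 0 → ∃ x y : HeisO bar, z = ⁅x, y⁆) :
    ∀ g₁ g₂ : Γ, τ g₁ ∈ d.u.range → τ g₂ ∈ (ZH bar).map d.u → Commute g₁ g₂ := by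
  intro g₁ g₂ h1 h2
  obtain ⟨x, hx⟩ := h1
  obtain ⟨z, hz, hz'⟩ := h2
  have h := lc_eq' hτ hc hx.symm hz'.symm
  rw [Cfsg.Agent.Helper89.PsuA.lc_u_z bar d τ hτ hc hf1 hf2 hf3 x z hz] at h
  exact commutatorElement_eq_one_iff_commute.mp h

include hτ hc in
theorem exists_complement [Finite Γ] (p : ℕ) (hp : Nat.card τ.ker = p) (hcop : (Nat.card Kˣ).Coprime p)
    (hf1 : ∃ l : Kˣ, nu bar l = 1 ∧ mu bar l ≠ 1) (hf2 : ∀ a : K, ∃ x : HeisO bar, x.a = a)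
    (hf3 : ∀ z : HeisO bar, z.a = 0 → ∃ x y : HeisO bar, z = ⁅x, y⁆)
    (hf4 : ∃ l : Kˣ, nu bar l ≠ 1)
    (hf6 : ∃ l₁ l₂ : Kˣ, mu bar l₂ = 1 + mu bar l₁ ∧ mu bar l₁ ^ 2 + mu bar l₁ + 1 ≠ 0) :
    ∃ V : Subgroup Γ, V ⊓ τ.ker = ⊥ ∧ V.map τ = d.u.range ∧
      ∀ g : Γ, τ g ∈ d.t.range → ∀ v ∈ V, g * v * g⁻¹ ∈ V := by
  set U : Subgroup G := d.u.range with hU
  set Z : Subgroup G := (ZH bar).map d.u with hZ
  set T : Subgroup G := d.t.range with hT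
  have hZU : Z ≤ U := ZH_map_le bar d
  have hS2 := commute_lifts bar d τ hτ hc hf1 hf2 hf3
  -- `T̂` normalises `Û`, `Ẑ`, `T̂`
  have hTU : ∀ g : Γ, τ g ∈ T → ∀ x ∈ U.comap τ, g * x * g⁻¹ ∈ U.comap τ := by
    intro g hg x hx
    rw [Subgroup.mem_comap] at hx ⊢
    rw [map_mul, map_mul, map_inv]
    exact t_conj_u bar d _ hg _ hx
  have hTZ : ∀ g : Γ, τ g ∈ T → ∀ x ∈ Z.comap τ, g * x * g⁻¹ ∈ Z.comap τ := by
    intro g hg x hx
    rw [Subgroup.mem_comap] at hx ⊢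
    rw [map_mul, map_mul, map_inv]
    exact t_conj_z bar d _ hg _ hx
  have hTT : ∀ g : Γ, τ g ∈ T → ∀ x ∈ T.comap τ, g * x * g⁻¹ ∈ T.comap τ := by
    intro g hg x hx
    rw [Subgroup.mem_comap] at hx ⊢
    rw [map_mul, map_mul, map_inv]
    exact T.mul_mem (T.mul_mem hg hx) (T.inv_mem hg)
  -- coprimality
  have hcop' : (Nat.card T).Coprime (Nat.card τ.ker) := by
    rw [hp]
    have h1 : Nat.card T ∣ Nat.card Kˣ := by
      rw [hT]
      exact Subgroup.card_range_dvd d.t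
    exact Nat.Coprime.coprime_dvd_left h1 hcop
  -- `Z̃`
  have hZab : ⁅Z.comap τ, Z.comap τ⁆ ≤ (⊥ : Subgroup Γ) := by
    rw [Subgroup.commutator_le]
    intro a ha b hb
    rw [Subgroup.mem_bot, commutatorElement_eq_one_iff_commute]
    exact hS2 a b (hZU ha) hb
  have hZt : ⁅Z.comap τ, T.comap τ⁆ ⊓ τ.ker = ⊥ := by
    have h := Cfsg.Agent.Helper59.PsuM.comm_comap_inf_ker τ hτ hc (Z.comap τ) ⊥ T bot_le hZab hTZ
      (by
        intro g _ x hx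
        rw [Subgroup.mem_bot] at hx ⊢
        rw [hx, mul_one, mul_inv_cancel]) hcop' (by rw [bot_inf_eq])
    rwa [bot_sup_eq] at h
  have hZtZ : ⁅Z.comap τ, T.comap τ⁆ ≤ Z.comap τ := by
    rw [Subgroup.commutator_le]
    intro a ha b hb
    have h1 : ⁅a, b⁆ = a * (b * a⁻¹ * b⁻¹) := by
      simp only [commutatorElement_def]; group
    rw [h1]
    exact (Z.comap τ).mul_mem ha (hTZ b hb a⁻¹ ((Z.comap τ).inv_mem ha))
  have hTZt := fun g (hg : τ g ∈ T) => conj_mem_commutator (Z.comap τ) (T.comap τ) g (hTZ g hg) (hTT g hg)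
  -- (S4)
  have hS4 : ⁅U.comap τ, U.comap τ⁆ ≤ ⁅Z.comap τ, T.comap τ⁆ :=
    Cfsg.Agent.Helper89.PsuA.comm_le bar d τ hτ hc hS2 hf2 hf6 (fun C N hC hNC ℓ hℓ hl hr s₁ s₂ h12 hs h1 h2 =>
      Cfsg.Agent.Helper48.PsuA.kap C N hC hNC ℓ hℓ hl hr s₁ s₂ h12 hs h1 h2)
  -- `V`
  have hZtU : ⁅Z.comap τ, T.comap τ⁆ ≤ U.comap τ := hZtZ.trans (Subgroup.comap_mono hZU)
  have hV := Cfsg.Agent.Helper59.PsuM.comm_comap_inf_ker τ hτ hc (U.comap τ) ⁅Z.comap τ, T.comap τ⁆ T hZtU hS4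
    hTU hTZt hcop' hZt
  have hUTU : ⁅U.comap τ, T.comap τ⁆ ≤ U.comap τ := by
    rw [Subgroup.commutator_le]
    intro a ha b hb
    have h1 : ⁅a, b⁆ = a * (b * a⁻¹ * b⁻¹) := by
      simp only [commutatorElement_def]; group
    rw [h1]
    exact (U.comap τ).mul_mem ha (hTU b hb a⁻¹ ((U.comap τ).inv_mem ha))
  refine ⟨⁅Z.comap τ, T.comap τ⁆ ⊔ ⁅U.comap τ, T.comap τ⁆, hV, ?_, ?_⟩
  · apply le_antisymm
    · have h1 : ⁅Z.comap τ, T.comap τ⁆ ⊔ ⁅U.comap τ, T.comap τ⁆ ≤ U.comap τ := sup_le hZtU hUTU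
      calc (⁅Z.comap τ, T.comap τ⁆ ⊔ ⁅U.comap τ, T.comap τ⁆).map τ ≤ (U.comap τ).map τ := Subgroup.map_mono h1
        _ ≤ U := Subgroup.map_comap_le _ _
    · rw [Subgroup.map_sup, Subgroup.map_commutator, Subgroup.map_commutator,
        Subgroup.map_comap_eq_self_of_surjective hτ, Subgroup.map_comap_eq_self_of_surjective hτ,
        Subgroup.map_comap_eq_self_of_surjective hτ]
      have h1 : Z ≤ ⁅Z, T⁆ := ZT bar d hf4
      have h2 : U ≤ Z ⊔ ⁅U, T⁆ := UT bar d (by obtain ⟨l, -, hl⟩ := hf1; exact ⟨l, hl⟩) hf2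
      exact h2.trans (sup_le_sup_right h1 _)
  · intro g hg
    exact conj_mem_sup _ _ g (hTZt g hg) (conj_mem_commutator _ _ g (hTU g hg) (hTT g hg))

end abstract

/-! ## the concrete theorem -/

section final

variable {K : Type u} [Field K] [Fintype K] {q : ℕ}

/-- the `p`-part of block A of S2089 for helper84's model of `SU₃(q)` -/
theorem noStemP_SUJ (hK : Fintype.card K = q ^ 2) (hq : 3 ≤ q) (bar : K →+* K) (hbar : ∀ x, bar x = x ^ q)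
    [BarInv K bar] (p : ℕ) [Fact p.Prime] [CharP K p] : NoStemP ↥(SUJ bar) p := by
  obtain ⟨d, -⟩ := Cfsg.Agent.Helper46.PsuA.exists_datum bar
  have hcop : (Nat.card Kˣ).Coprime p := card_units_coprime p
  have hf1 := exists_norm_one hK bar hbar hq
  have hf2 := exists_heis_a hK bar hbar
  have hf3 := Cfsg.Agent.Helper46.PsuA.exists_comm_eq hK bar hbar
  have hf4 := Cfsg.Agent.Helper48.PsuA.exists_norm_ne_one hK bar hbar hq
  have hf6 : ∃ l₁ l₂ : Kˣ, mu bar l₂ = 1 + mu bar l₁ ∧ mu bar l₁ ^ 2 + mu bar l₁ + 1 ≠ 0 := by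
    by_cases h5 : 5 ≤ q
    · exact Cfsg.Agent.Helper37.PsuA.exists_mu_pair_of_five_le hK bar hbar h5
    · exact Cfsg.Agent.Helper37.PsuA.exists_mu_pair_of_small hK bar hbar (by omega)
  apply Cfsg.Agent.Helper30.PsuM.noStemP_of_borel_complement p d.u.range d.t.range
  · rintro _ ⟨l, rfl⟩ _ ⟨l', rfl⟩
    rw [← map_mul, ← map_mul, mul_comm]
  · intro hdvd
    have h1 : Nat.card d.t.range ∣ Nat.card Kˣ := Subgroup.card_range_dvd d.t
    have h2 : p ∣ Nat.card Kˣ := hdvd.trans h1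
    have hp : p.Prime := Fact.out
    exact hp.one_lt.ne' (Nat.eq_one_of_dvd_coprimes hcop h2 dvd_rfl)
  · intro t ht x hx
    exact t_conj_u bar d t ht x hx
  · exact not_dvd_index hK bar hbar p d
  · intro Γ _ _ τ hst hker
    exact exists_complement bar d τ hst.1 hst.2.1 p hker hcop hf1 hf2 hf3 hf4 hf6

/-- **S2089, block A, the `p`-part**: `SU₃(q)`, `q ≥ 3`, has no stem extension with kernel of order `p`, the characteristic -/
theorem noStemP_SU3 {F : Type u} [Field F] [Fintype F] (q : ℕ) (hF : Fintype.card F = q ^ 2) (hq : 3 ≤ q)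
    (p : ℕ) [Fact p.Prime] [CharP F p] : NoStemP ↥(Cfsg.SU 3 F q) p := by
  obtain ⟨bar, hbar⟩ := Cfsg.Agent.Helper45.GU.exists_bar hF
  haveI : BarInv F bar := ⟨fun x => by rw [hbar, hbar]; exact Cfsg.Agent.Helper13.frob_frob hF x⟩
  obtain ⟨φ, -⟩ := Cfsg.Agent.Helper86.RU3.exists_transfer hF bar hbar
  exact Cfsg.Agent.Helper41.PsuM.noStemP_congr φ p (noStemP_SUJ hF hq bar hbar p)

end final

end Cfsg.Agent.Helper9.PsuA
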